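import Cfsg.Agent.H10.AbTwo.Sylow
import Cfsg.Agent.H28.WardCons.Basic
import Cfsg.Agent.H76.PostBender.Main
import Cfsg.Agent.S0222
import Cfsg.Agent.Linear.Order
import Cfsg.Agent.Linear.Simple
import Cfsg.Agent.S0494
import Cfsg.Agent.S0493
import Cfsg.Agent.S0205

/-!
# Simple groups in which no 2-element is conjugate to another generator of its cyclic group

The involutions of a Sylow 2-subgroup commute, so they form a strongly closed abelian subgroup.
Goldschmidt's theorem (taken as a hypothesis) leaves Bender's groups and the groups with abelian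
Sylow 2-subgroups.
-/

set_option autoImplicit false
set_option linter.unusedSectionVars false
set_option linter.style.haveILetI false

namespace Cfsg.Agent.H36.TwoIrrational

open Subgroup Cfsg.Agent

universe u

/-- The theorem on strongly closed abelian 2-subgroups, for simple groups. -/
def StronglyClosedAbelianHyp : Prop :=
  ∀ (G : Type u) [Group G] [Finite G] [IsSimpleGroup G] (S : Sylow 2 G) (A : Subgroup G),
    A ≠ ⊥ → IsMulCommutative A → Cfsg.IsStronglyClosed A (S : Subgroup G) →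
      IsMulCommutative (S : Subgroup G) ∨ ∃ H : Subgroup G, Cfsg.IsStronglyEmbedded H

/-- No 2-element is conjugate to another generator of its cyclic group. -/
def TwoIrr (G : Type*) [Group G] : Prop :=
  ∀ x : G, (∀ r : ℕ, r.Prime → r ∣ orderOf x → r = 2) →
    Subgroup.normalizer ((Subgroup.zpowers x : Subgroup G) : Set G) ≤ Subgroup.centralizer {x}

theorem sq_eq_one_of_inverted {G : Type*} [Group G] (h : TwoIrr G) {x g : G} {k : ℕ}
    (hx : x ^ 2 ^ k = 1) (hg : g * x * g⁻¹ = x⁻¹) : x * x = 1 := by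
  have h2 : ∀ r : ℕ, r.Prime → r ∣ orderOf x → r = 2 := fun r hr hd =>
    (Nat.prime_dvd_prime_iff_eq hr Nat.prime_two).1
      (hr.dvd_of_dvd_pow (hd.trans (orderOf_dvd_of_pow_eq_one hx)))
  have hn : g ∈ Subgroup.normalizer ((Subgroup.zpowers x : Subgroup G) : Set G) := by
    rw [Subgroup.mem_normalizer_iff]
    intro y
    have hconj : ∀ n : ℤ, g * x ^ n * g⁻¹ = x ^ (-n) := fun n => by
      rw [← conj_zpow, hg, inv_zpow, zpow_neg]
    constructor
    · rintro ⟨n, rfl⟩
      exact ⟨-n, (hconj n).symm⟩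
    · rintro ⟨n, hn⟩
      refine ⟨-n, mul_left_cancel (a := g) (mul_right_cancel (b := g⁻¹) ?_)⟩
      show g * x ^ (-n) * g⁻¹ = g * y * g⁻¹
      rw [hconj, neg_neg]
      exact hn
  have hc := mem_centralizer_singleton_iff.1 (h x h2 hn)
  have : g * x * g⁻¹ = x := by rw [hc, mul_inv_cancel_right]
  rw [hg] at this
  calc x * x = x * x⁻¹ := by rw [this]
    _ = 1 := mul_inv_cancel x

theorem involutions_commute {G : Type*} [Group G] (h : TwoIrr G)
    {S : Subgroup G} (hS : IsPGroup 2 ↥S) {u v : G} (hu : u ∈ S) (hv : v ∈ S)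
    (hu2 : u * u = 1) (hv2 : v * v = 1) : u * v = v * u := by
  have hui : u⁻¹ = u := inv_eq_of_mul_eq_one_right hu2
  have hvi : v⁻¹ = v := inv_eq_of_mul_eq_one_right hv2
  obtain ⟨k, hk⟩ := hS ⟨u * v, mul_mem hu hv⟩
  have hk' : (u * v) ^ 2 ^ k = 1 := by simpa using congrArg Subtype.val hk
  have hg : u * (u * v) * u⁻¹ = (u * v)⁻¹ := by
    rw [mul_inv_rev, hui, hvi, ← mul_assoc, hu2, one_mul]
  have hsq := sq_eq_one_of_inverted h hk' hg
  calc u * v = (u * v)⁻¹ := (inv_eq_of_mul_eq_one_right hsq).symm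
    _ = v * u := by rw [mul_inv_rev, hui, hvi]

/-- The involutions of a subgroup, with the identity. -/
def invSubgroup {G : Type*} [Group G] (h : TwoIrr G) (S : Subgroup G)
    (hS : IsPGroup 2 ↥S) : Subgroup G where
  carrier := {x | x ∈ S ∧ x * x = 1}
  one_mem' := ⟨one_mem _, one_mul _⟩
  mul_mem' := by
    rintro a b ⟨ha, ha2⟩ ⟨hb, hb2⟩
    refine ⟨mul_mem ha hb, ?_⟩
    calc a * b * (a * b) = a * (b * a) * b := by simp only [mul_assoc]
      _ = a * a * (b * b) := by
          rw [← involutions_commute h hS ha hb ha2 hb2]; simp only [mul_assoc]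
      _ = 1 := by rw [ha2, hb2, one_mul]
  inv_mem' := by
    rintro a ⟨ha, ha2⟩
    exact ⟨inv_mem ha, by rw [← mul_inv_rev, ha2, inv_one]⟩

/-- Abelian Sylow subgroup or strongly embedded subgroup. -/
theorem dichotomy (hWA : StronglyClosedAbelianHyp.{u}) {G : Type u} [Group G] [Finite G]
    [IsSimpleGroup G] (hna : ¬ IsMulCommutative G) (h : TwoIrr G) :
    (∃ S : Sylow 2 G, IsMulCommutative ↥(S : Subgroup G)) ∨
      ∃ H : Subgroup G, Cfsg.IsStronglyEmbedded H := by
  haveI : Fact (Nat.Prime 2) := ⟨Nat.prime_two⟩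
  obtain ⟨S⟩ : Nonempty (Sylow 2 G) := inferInstance
  set A := invSubgroup h (S : Subgroup G) S.isPGroup' with hAdef
  have hA1 : A ≠ ⊥ := by
    have h2 : 2 ∣ Nat.card G := by
      by_contra hodd
      have hodd' : Odd (Nat.card G) := Nat.odd_iff.2 (by omega)
      haveI := Cfsg.Agent.S0205.result hodd'
      exact hna ⟨⟨IsSimpleGroup.comm_iff_isSolvable.2 inferInstance⟩⟩
    have hS2 : 2 ∣ Nat.card ↥(S : Subgroup G) := S.dvd_card_of_dvd_card h2
    obtain ⟨x, hx⟩ := exists_prime_orderOf_dvd_card' 2 hS2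
    intro hbot
    have hmem : (x : G) ∈ A := ⟨x.2, by
      have := pow_orderOf_eq_one x
      rw [hx, sq] at this
      exact congrArg Subtype.val this⟩
    rw [hbot, Subgroup.mem_bot, ← Subgroup.coe_one (S : Subgroup G), Subtype.coe_inj] at hmem
    rw [hmem, orderOf_one] at hx
    exact absurd hx (by norm_num)
  have hAc : IsMulCommutative A :=
    ⟨⟨fun a b => Subtype.ext (involutions_commute h S.isPGroup' a.2.1 b.2.1 a.2.2 b.2.2)⟩⟩
  have hAS : Cfsg.IsStronglyClosed A (S : Subgroup G) := by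
    refine ⟨fun x hx => hx.1, fun x hx g hg => ⟨hg, ?_⟩⟩
    rw [show g * x * g⁻¹ * (g * x * g⁻¹) = g * (x * x) * g⁻¹ by group, hx.2, mul_one,
      mul_inv_cancel]
  rcases hWA G S A hA1 hAc hAS with hS | hH
  · exact Or.inl ⟨S, hS⟩
  · exact Or.inr hH

section Unitary

open Cfsg.Agent.H67.RankOneFix Cfsg.Agent.Unitary Cfsg.Agent.H52.SUThree

variable {F : Type} [Field F] [Fintype F] {q : ℕ}

/-- `PSU₃` in characteristic two has an element of order 4 conjugate to its inverse. -/
theorem psu_not_twoIrrational (hF : Fintype.card F = q ^ 2) (hq : Even q) {N : Type*} [Group N]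
    [Finite N] (e : N ≃* Cfsg.PSU 3 F q) (h : TwoIrr N) : False := by
  classical
  haveI : Fact (Nat.Prime 2) := ⟨Nat.prime_two⟩
  haveI : CharP F 2 := H76.PostBender.charP_two_of_card hF hq
  obtain ⟨u, w, f, hfr⟩ := exists_frame (F := F) hF
  have hu0 : u ≠ 0 := fun h => by
    have := hfr.uf; rw [h, herm_zero_left] at this; exact zero_ne_one this
  obtain ⟨l, hl⟩ := exists_ok hF (1 : F)
  obtain ⟨m, hm⟩ := exists_ok hF l
  set A := eSU hF (hl.spec hfr) with hA
  set B := eSU hF (hm.spec hfr) with hB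
  have hl' : l + l ^ q + 1 = 0 := by simpa [Ok] using hl
  have hrel : A * (B * A) = B := by
    rw [E_mul hF hfr hm hl, E_mul hF hfr hl (hm.add hF hl)]
    refine E_congr hF hfr (hl.add hF (hm.add hF hl)) hm ?_ ?_
    · linear_combination (CharTwo.add_self_eq_zero (1 : F))
    · rw [one_pow]
      linear_combination -hl' + l * (CharTwo.add_self_eq_zero (1 : F))
  have hA4 : A ^ 2 ^ 2 = 1 := E_pow_char_sq (p := 2) hF hfr hl
  have hA2 : ¬ A * A ∈ center (Cfsg.SU 3 F q) := by
    intro hz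
    obtain ⟨c, hc⟩ := eq_smul_of_mem_center hF (by norm_num) hz
    have hu : ap (A * A) u = u := by rw [ap_mul, E_fixes hF hfr hl, E_fixes hF hfr hl]
    rw [hc u] at hu
    have hc1 : c = 1 := smul_left_injective F hu0 (by simpa using hu)
    have h2 := congrArg (fun v => hermForm 3 F q v f)
      ((hc (vec u w f 0 0 1)).trans (by rw [hc1, one_smul]))
    rw [E_mul hF hfr hl hl] at h2
    rw [ap_E hF hfr (hl.add hF hl) 0 0 1] at h2
    simp only [hfr.coord_f, mul_zero, sub_zero, mul_one,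
      one_pow, zero_add] at h2
    exact one_ne_zero (show (1 : F) = 0 by
      linear_combination -h2 + l * (CharTwo.add_self_eq_zero (1 : F)))
  let π : Cfsg.SU 3 F q →* N :=
    e.symm.toMonoidHom.comp (QuotientGroup.mk' (center (Cfsg.SU 3 F q)))
  have hgx : π B * π A * (π B)⁻¹ = (π A)⁻¹ := by
    have hr : π A * (π B * π A) = π B := by rw [← map_mul, ← map_mul, hrel]
    rw [mul_inv_eq_iff_eq_mul]
    exact eq_inv_mul_of_mul_eq hr
  have hsq : π A * π A = 1 :=
    sq_eq_one_of_inverted (k := 2) h (by rw [← map_pow, hA4, map_one]) hgx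
  refine hA2 ((QuotientGroup.eq_one_iff _).1 (e.symm.injective ?_))
  rw [map_one e.symm, ← hsq, ← map_mul]
  rfl

end Unitary

theorem zmod_five_two : (2 : ZMod 5) ≠ 0 ∧ (2 : ZMod 5) ^ 2 ≠ 1 := by decide

theorem psl_four {G : Type*} [Group G] [Finite G] [IsSimpleGroup G] {F : Type} [Field F]
    [Fintype F] (hF : Fintype.card F = 4)
    (e : G ≃* Matrix.ProjectiveSpecialLinearGroup (Fin 2) F) :
    Nonempty (G ≃* Matrix.ProjectiveSpecialLinearGroup (Fin 2) (ZMod 5)) := by
  haveI : Fact (Nat.Prime 5) := ⟨by norm_num⟩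
  haveI : IsSimpleGroup (Matrix.ProjectiveSpecialLinearGroup (Fin 2) (ZMod 5)) :=
    Linear.isSimpleGroup_PSL (Or.inr ⟨2, zmod_five_two⟩)
  have h4 : Nat.card G = 60 := by
    rw [Nat.card_congr e.toEquiv]
    have := Linear.card_PSL_two_mul (F := F)
    rw [hF] at this
    norm_num at this
    exact this
  have h5 : Nat.card (Matrix.ProjectiveSpecialLinearGroup (Fin 2) (ZMod 5)) = 60 := by
    have := Linear.card_PSL_two_mul (F := ZMod 5)
    rw [ZMod.card] at this
    rw [show Nat.gcd 2 (5 - 1) = 2 from rfl] at this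
    omega
  obtain ⟨a⟩ := Cfsg.Agent.S0494.result h4
  obtain ⟨b⟩ := Cfsg.Agent.S0494.result h5
  exact ⟨a.trans b.symm⟩

/-- The classification of 2-irrational simple groups. -/
theorem classification (hWA : StronglyClosedAbelianHyp.{u}) (hW : H10.Walter.WalterHyp.{u})
    (hR : H28.WardCons.TypeRCentralizer.{u}) (hWard : H28.WardCons.WardHyp.{u})
    {G : Type u} [Group G] [Finite G] [IsSimpleGroup G] (hna : ¬ IsMulCommutative G)
    (h : TwoIrr G) :
    (∃ (F : Type) (_ : Field F) (_ : Fintype F), 4 ≤ Fintype.card F ∧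
        (Fintype.card F % 8 = 0 ∨ Fintype.card F % 8 = 3 ∨ Fintype.card F % 8 = 5) ∧
        Nonempty (G ≃* Matrix.ProjectiveSpecialLinearGroup (Fin 2) F)) ∨
    Cfsg.IsSuzuki G ∨ Cfsg.IsRee G ∨ Cfsg.IsJ1 G := by
  haveI : Fact (Nat.Prime 5) := ⟨by norm_num⟩
  have heven : ∀ (F : Type) (_ : Field F) (_ : Fintype F) (n : ℕ), 2 ≤ n →
      Fintype.card F = 2 ^ n → Nonempty (G ≃* Matrix.ProjectiveSpecialLinearGroup (Fin 2) F) →
      (∃ (F : Type) (_ : Field F) (_ : Fintype F), 4 ≤ Fintype.card F ∧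
        (Fintype.card F % 8 = 0 ∨ Fintype.card F % 8 = 3 ∨ Fintype.card F % 8 = 5) ∧
        Nonempty (G ≃* Matrix.ProjectiveSpecialLinearGroup (Fin 2) F)) := by
    intro F i1 i2 n hn hc he
    rcases (show n = 2 ∨ 3 ≤ n by omega) with rfl | h3
    · obtain ⟨e⟩ := he
      exact ⟨ZMod 5, inferInstance, inferInstance, by rw [ZMod.card]; norm_num,
        by rw [ZMod.card]; norm_num, psl_four hc e⟩
    · obtain ⟨k, rfl⟩ := Nat.exists_eq_add_of_le h3
      refine ⟨F, i1, i2, ?_, Or.inl ?_, he⟩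
      · rw [hc, pow_add]
        have := Nat.one_le_two_pow (n := k)
        omega
      · rw [hc, pow_add]
        omega
  rcases dichotomy hWA hna h with ⟨S, hS⟩ | ⟨H, hH⟩
  · rcases H28.WardCons.abelian_sylow_two hW hR hWard hna S hS with
      ⟨a, ha, F, _, _, hc, he⟩ | ⟨F, _, _, h8, he⟩ | hr | hj
    · exact Or.inl (heven F _ _ a ha hc he)
    · refine Or.inl ⟨F, _, _, ?_, Or.inr h8, he⟩
      by_contra hlt
      have h3 : Fintype.card F = 3 := by omega
      have h12 : Nat.card G = 12 := by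
        rw [Nat.card_congr he.some.toEquiv]
        have := Linear.card_PSL_two_mul (F := F)
        rw [h3] at this
        norm_num at this
        omega
      have := Cfsg.Agent.S0493.result (G := G)
        (fun hc => hna (haveI := hc; ⟨⟨fun a b => IsCyclic.commGroup.mul_comm a b⟩⟩)) (by omega)
      omega
    · exact Or.inr (Or.inr (Or.inl hr))
    · exact Or.inr (Or.inr (Or.inr hj))
  · have hne : ∃ a b : G, a * b ≠ b * a := by
      by_contra hc
      push Not at hc
      exact hna ⟨⟨hc⟩⟩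
    rcases Cfsg.Agent.S0222.result hne H hH with
      ⟨F, _, _, hc, h4, he⟩ | hsz | ⟨F, _, _, q, hF, hq, -, ⟨e⟩⟩
    · obtain ⟨n, -, hn⟩ := FiniteField.card F 2
      refine Or.inl (heven F _ _ n ?_ hn he)
      by_contra hlt
      have := Nat.pow_le_pow_right (show 1 ≤ 2 by norm_num) (Nat.lt_succ_iff.1 (not_le.1 hlt))
      omega
    · exact Or.inr (Or.inl hsz)
    · exact (psu_not_twoIrrational hF hq e h).elim

end Cfsg.Agent.H36.TwoIrrational
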